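import Cfsg.Agent.GWDihedral.Shell.Subgroups
import Cfsg.Agent.GWFour.Consumers.Reduce
import Cfsg.Agent.S0514

/-!
Simple groups with dihedral Sylow 2-subgroups: the target and the structure over the simple case.
-/

set_option autoImplicit false
set_option linter.unusedSectionVars false
set_option linter.style.haveILetI false

namespace Cfsg.Lib.GWD

open Subgroup Cfsg.Lib.GenDihedral

universe u

/-- The simple groups with dihedral Sylow 2-subgroups: `PSL(2, q)`, `q ≥ 5` odd, and `A₇`. -/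
def IsDihType (G : Type u) [Group G] : Prop :=
  (∃ (F : Type) (_ : Field F) (_ : Fintype F), Odd (Fintype.card F) ∧ 5 ≤ Fintype.card F ∧
      Nonempty (G ≃* Matrix.ProjectiveSpecialLinearGroup (Fin 2) F)) ∨
    Nonempty (G ≃* alternatingGroup (Fin 7))

/-- The Gorenstein–Walter theorem for simple groups. -/
def DihedralProp : Prop :=
  ∀ (G : Type u) [Group G] [Finite G] [IsSimpleGroup G] (S : Sylow 2 G) (m : ℕ), 2 ≤ m →
    Nonempty ((S : Subgroup G) ≃* DihedralGroup m) → IsDihType G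

/-- The same for groups of order at most `n`. -/
def DihBelow (n : ℕ) : Prop :=
  ∀ (G : Type u) [Group G] [Finite G] [IsSimpleGroup G] (S : Sylow 2 G) (m : ℕ), 2 ≤ m →
    Nonempty ((S : Subgroup G) ≃* DihedralGroup m) → Nat.card G ≤ n → IsDihType G

theorem DihedralProp.below (hD : DihedralProp.{u}) (n : ℕ) : DihBelow.{u} n :=
  fun G _ _ _ S m hm hS _ => hD G S m hm hS

theorem IsDihType.congr {G H : Type u} [Group G] [Group H] (e : G ≃* H) (h : IsDihType H) : IsDihType G := by
  rcases h with ⟨F, i, j, ho, h5, ⟨f⟩⟩ | ⟨⟨f⟩⟩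
  · exact Or.inl ⟨F, i, j, ho, h5, ⟨e.trans f⟩⟩
  · exact Or.inr ⟨e.trans f⟩

variable {G : Type u} [Group G] [Finite G]

/-- The order of a dihedral Sylow 2-subgroup. -/
theorem dihedral_data (S : Sylow 2 G) {m : ℕ} (hm : 2 ≤ m)
    (hS : Nonempty ((S : Subgroup G) ≃* DihedralGroup m)) :
    Nat.card (S : Subgroup G) = 2 * m ∧ ∃ k, m = 2 ^ (k + 1) := by
  haveI : Fact (Nat.Prime 2) := ⟨Nat.prime_two⟩
  obtain ⟨e⟩ := hS
  have hc : Nat.card (S : Subgroup G) = 2 * m := by rw [Nat.card_congr e.toEquiv, DihedralGroup.nat_card]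
  obtain ⟨k, hk⟩ := IsPGroup.iff_card.1 S.2
  rw [hc] at hk
  rcases k with _ | _ | k
  · rw [pow_zero] at hk; omega
  · rw [zero_add, pow_one] at hk; omega
  · refine ⟨hc, k, ?_⟩
    rw [pow_succ, Nat.mul_comm _ 2] at hk
    exact Nat.eq_of_mul_eq_mul_left two_pos hk

theorem solvable_centralizer (S : Sylow 2 G) {m : ℕ} (hm : 2 ≤ m)
    (hS : Nonempty ((S : Subgroup G) ≃* DihedralGroup m)) {t : G} (ht : orderOf t = 2) :
    Group.IsSolvable (centralizer ({t} : Set G)) := by
  obtain ⟨N, hN, hodd, k, hk⟩ := Cfsg.Agent.S0514.result S m hm hS t ht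
  haveI := hN
  refine solvable_ext N (Cfsg.Agent.PF.isSolvable_of_odd _ hodd) ?_
  haveI : Fact (Nat.Prime 2) := ⟨Nat.prime_two⟩
  haveI : Group.IsNilpotent (centralizer ({t} : Set G) ⧸ N) :=
    (IsPGroup.of_card (p := 2) (n := k) (by rw [← index_eq_card, hk])).isNilpotent
  infer_instance

/-- The subgroups of a dihedral Sylow 2-subgroup. -/
theorem inter_cases (S : Sylow 2 G) {m : ℕ} (hm : 2 ≤ m)
    (hS : Nonempty ((S : Subgroup G) ≃* DihedralGroup m)) (N : Subgroup G) :
    IsCyclic ↥((S : Subgroup G) ⊓ N : Subgroup G) ∨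
      ∃ d, 2 ≤ d ∧ Nonempty (↥((S : Subgroup G) ⊓ N : Subgroup G) ≃* DihedralGroup d) := by
  haveI : NeZero m := ⟨by omega⟩
  exact sub_of_equiv hS.some inf_le_left

/-- The intersection with a normal subgroup is one of its Sylow 2-subgroups. -/
theorem sylow_of_inter (S : Sylow 2 G) (L : Subgroup G) [L.Normal] :
    ∃ P : Sylow 2 L, (P : Subgroup L).map L.subtype = (S : Subgroup G) ⊓ L := by
  haveI : Fact (Nat.Prime 2) := ⟨Nat.prime_two⟩
  obtain ⟨k, m, hk, hm, hL⟩ := card_inf_sylow S L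
  have e : ↥(((S : Subgroup G) ⊓ L).subgroupOf L) ≃* ↥((S : Subgroup G) ⊓ L : Subgroup G) :=
    subgroupOfEquivOfLe inf_le_right
  have hidx : ¬ 2 ∣ (((S : Subgroup G) ⊓ L).subgroupOf L).index := by
    have h := (((S : Subgroup G) ⊓ L).subgroupOf L).card_mul_index
    rw [Nat.card_congr e.toEquiv, hk, hL] at h
    rw [Nat.eq_of_mul_eq_mul_left (Nat.two_pow_pos k) h]
    exact fun hd => Nat.not_even_iff_odd.2 hm (even_iff_two_dvd.2 hd)
  have hp : IsPGroup 2 ↥(((S : Subgroup G) ⊓ L).subgroupOf L) :=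
    (S.2.to_le (inf_le_left : (S : Subgroup G) ⊓ L ≤ S)).of_equiv e.symm
  exact ⟨hp.toSylow hidx, map_subgroupOf_eq_of_le inf_le_right⟩

theorem noTwo_of (S : Sylow 2 G) {m : ℕ} (hm : 2 ≤ m)
    (hS : Nonempty ((S : Subgroup G) ≃* DihedralGroup m)) (hns : ¬ Group.IsSolvable G) : NoTwo G := by
  haveI : Fact (Nat.Prime 2) := ⟨Nat.prime_two⟩
  intro N hN hexp
  haveI := hN
  by_contra hne
  obtain ⟨x, hx, hx1⟩ := N.bot_or_exists_ne_one.resolve_left hne
  have hx2 : orderOf x = 2 := orderOf_eq_prime (by rw [pow_two, hexp x hx]) hx1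
  have hNS : N ≤ (S : Subgroup G) := by
    obtain ⟨T, hT⟩ := (show IsPGroup 2 N from fun y => ⟨1, Subtype.ext (by simp [pow_two, hexp _ y.2])⟩).exists_le_sylow
    obtain ⟨g, rfl⟩ := MulAction.exists_smul_eq G T S
    exact fun y hy => ⟨g⁻¹ * y * g, hT (by simpa using hN.conj_mem y hy g⁻¹), by
      show g * (g⁻¹ * y * g) * g⁻¹ = y
      group⟩
  refine hns (solvable_of_small_normal N ?_ (solvable_of_le
    (centralizer_le (Set.singleton_subset_iff.2 hx)) (solvable_centralizer S hm hS hx2)))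
  haveI : NeZero m := ⟨by omega⟩
  rcases sub_of_equiv hS.some hNS with hc | ⟨d, hd, ⟨f⟩⟩
  · obtain ⟨g, hg⟩ := hc.exists_generator
    have h2 : orderOf g ∣ 2 := orderOf_dvd_of_pow_eq_one (Subtype.ext (by simp [pow_two, hexp _ g.2]))
    rw [orderOf_eq_card_of_forall_mem_zpowers hg] at h2
    have := Nat.le_of_dvd two_pos h2
    omega
  · haveI : NeZero d := ⟨by omega⟩
    have h : (DihedralGroup.r (1 : ZMod d) : DihedralGroup d) ^ 2 = 1 := by
      obtain ⟨y, hy⟩ := f.surjective (DihedralGroup.r (1 : ZMod d))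
      rw [← hy, ← map_pow, show y ^ 2 = 1 from Subtype.ext (by simp [pow_two, hexp _ y.2]), map_one]
    have := Nat.le_of_dvd two_pos ((DihedralGroup.orderOf_r_one (n := d)) ▸ orderOf_dvd_of_pow_eq_one h)
    rw [Nat.card_congr f.toEquiv, DihedralGroup.nat_card]
    omega

/-- A non-solvable group with dihedral Sylow 2-subgroups and no odd core has a simple socle of index
not divisible by four. -/
theorem minimal_normal (S : Sylow 2 G) {m : ℕ} (hm : 2 ≤ m)
    (hS : Nonempty ((S : Subgroup G) ≃* DihedralGroup m)) (hO : NoOdd G) (hns : ¬ Group.IsSolvable G) :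
    ∃ L : Subgroup G, L.Normal ∧ IsSimpleGroup L ∧ ¬ Group.IsSolvable L ∧ ¬ 4 ∣ L.index ∧
      centralizer (L : Set G) = ⊥ ∧
      ∃ (P : Sylow 2 L) (d : ℕ), 2 ≤ d ∧ Nonempty ((P : Subgroup L) ≃* DihedralGroup d) := by
  haveI : Fact (Nat.Prime 2) := ⟨Nat.prime_two⟩
  haveI : NeZero m := ⟨by omega⟩
  obtain ⟨hcard, hpow⟩ := dihedral_data S hm hS
  have hnt := noTwo_of S hm hS hns
  haveI : Nontrivial G := by
    by_contra h
    haveI := not_nontrivial_iff_subsingleton.1 h
    exact hns inferInstance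
  obtain ⟨L, -, hLn, hLb, hmin⟩ :=
    Cfsg.Lib.Coprime.exists_minimal_normal (K := (⊤ : Subgroup G)) inferInstance top_ne_bot
  haveI := hLn
  have hLs : ¬ Group.IsSolvable L := fun h => hLb (rad_bot hO hnt hLn h)
  -- non-solvable normal subgroups of normal subgroups meet `S` in a dihedral group
  obtain ⟨P, hPmap⟩ := sylow_of_inter S L
  have eP : ↥(P : Subgroup L) ≃* ↥((S : Subgroup G) ⊓ L : Subgroup G) :=
    ((P : Subgroup L).equivMapOfInjective _ L.subtype_injective).trans (MulEquiv.subgroupCongr hPmap)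
  have hPnc : ¬ IsCyclic ↥((S : Subgroup G) ⊓ L : Subgroup G) := fun h =>
    hLs (Cfsg.Lib.CyclicInter.solvable_of_cyclic P (isCyclic_of_injective eP.toMonoidHom eP.injective))
  obtain ⟨d, hd, ⟨eD⟩⟩ := (inter_cases S hm hS L).resolve_left hPnc
  have hP : Nonempty ((P : Subgroup L) ≃* DihedralGroup d) := ⟨eP.trans eD⟩
  -- the central involution of `S`
  obtain ⟨e⟩ := hS
  set z : (S : Subgroup G) := e.symm (DihedralGroup.r ((m / 2 : ℕ) : ZMod m)) with hz
  have hzmem : ∀ D : Subgroup G, D ≤ (S : Subgroup G) → 2 < Nat.card D → (z : G) ∈ D := by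
    intro D hDS hD
    have hD' : 2 < Nat.card ↥((D.subgroupOf (S : Subgroup G)).map e.toMonoidHom) := by
      rwa [Subgroup.card_map_of_injective e.injective, Nat.card_congr (subgroupOfEquivOfLe hDS).toEquiv]
    obtain ⟨y, hy, hye⟩ := center_mem hpow _ hD'
    have : z = y := by rw [hz, ← hye]; exact e.symm_apply_apply y
    rw [this]; exact hy
  have hzL : (z : G) ∈ L := by
    refine (hzmem _ inf_le_left ?_).2
    rw [Nat.card_congr eD.toEquiv, DihedralGroup.nat_card]; omega
  have hz1 : (z : G) ≠ 1 := by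
    intro h
    obtain ⟨k, hk⟩ := hpow
    have h' : DihedralGroup.r ((m / 2 : ℕ) : ZMod m) = 1 := by
      rw [← e.apply_symm_apply (DihedralGroup.r _), ← hz, show z = 1 from Subtype.ext h, map_one]
    rw [← DihedralGroup.r_zero, DihedralGroup.r.injEq, ZMod.natCast_eq_zero_iff] at h'
    have := Nat.le_of_dvd (by omega) h'
    omega
  have hntL : NoTwo L := noTwo_of P hd hP hLs
  have hsimp : IsSimpleGroup L := by
    refine simple_of_common hLb hmin (w := ⟨z, hzL⟩) (fun e => hz1 (congrArg Subtype.val e))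
      fun N hN hNb => ?_
    haveI := hN
    by_contra hzN
    refine hNb (rad_bot (noOdd_sub hO L) hntL hN ?_)
    refine solvable_of_small_inf P N ?_
    by_contra hlt
    push Not at hlt
    obtain ⟨y, hy, hye⟩ := hzmem (((P : Subgroup L) ⊓ N).map L.subtype)
      ((map_mono inf_le_left).trans (hPmap.le.trans inf_le_left))
      (by rwa [Subgroup.card_map_of_injective L.subtype_injective])
    exact hzN ((show y = ⟨z, hzL⟩ from Subtype.ext hye) ▸ hy.2)
  refine ⟨L, hLn, hsimp, hLs, ?_, ?_, P, d, hd, hP⟩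
  · intro h4
    set D := L.subgroupOf (S : Subgroup G) with hD
    have eD' : ↥D ≃* ↥((S : Subgroup G) ⊓ L : Subgroup G) :=
      ((MulEquiv.subgroupCongr (inf_subgroupOf_right L (S : Subgroup G)).symm).trans
        (subgroupOfEquivOfLe inf_le_right)).trans (MulEquiv.subgroupCongr (inf_comm _ _))
    have hi : D.index ≤ 2 := by
      rw [← index_map_equiv D e]
      haveI : (D.map (e : (S : Subgroup G) →* DihedralGroup m)).Normal :=
        (inferInstance : D.Normal).map _ e.surjective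
      refine index_of_normal _ fun h => hPnc ?_
      haveI := h
      have f : ↥((S : Subgroup G) ⊓ L : Subgroup G) ≃* ↥(D.map (e : (S : Subgroup G) →* DihedralGroup m)) :=
        eD'.symm.trans (D.equivMapOfInjective (e : (S : Subgroup G) →* DihedralGroup m) e.injective)
      exact isCyclic_of_injective f.toMonoidHom f.injective
    obtain ⟨k, m', hk, hm', hL⟩ := card_inf_sylow S L
    have hS' := D.card_mul_index
    rw [Nat.card_congr eD'.toEquiv, hk] at hS'
    have hG : 2 ^ k * 4 ∣ Nat.card G := by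
      rw [← L.card_mul_index, hL, mul_assoc]
      exact mul_dvd_mul_left _ (h4.mul_left _)
    rw [← (S : Subgroup G).card_mul_index, ← hS'] at hG
    have hG' := (Nat.Coprime.dvd_of_dvd_mul_right (k := 2 ^ k * 4) (n := (S : Subgroup G).index) ?_ hG)
    · have := Nat.le_of_dvd (Nat.pos_of_ne_zero index_ne_zero_of_finite) (Nat.dvd_of_mul_dvd_mul_left (Nat.two_pow_pos k) hG')
      omega
    · rw [show 2 ^ k * 4 = 2 ^ (k + 2) by rw [pow_add]; rfl]
      exact ((Nat.prime_two.coprime_iff_not_dvd).2 S.not_dvd_index).pow_left _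
  · haveI := hsimp
    refine rad_bot hO hnt inferInstance (solvable_of_small_inf S _ ?_)
    by_contra hlt
    push Not at hlt
    have h1 := (hzmem _ inf_le_left hlt).2
    have h2 : (⟨z, hzL⟩ : L) ∈ center L := mem_center_iff.2 fun y =>
      Subtype.ext (mem_centralizer_iff.1 h1 y y.2)
    rcases (inferInstance : (center L).Normal).eq_bot_or_eq_top with h | h
    · rw [h, mem_bot] at h2
      exact hz1 (congrArg Subtype.val h2)
    · exact hLs (Group.isSolvable_of_comm fun a b => (mem_center_iff.1 (h ▸ mem_top b) a))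

/-- Passing to the quotient by the odd core. -/
theorem quot_data (S : Sylow 2 G) {m : ℕ} (hS : Nonempty ((S : Subgroup G) ≃* DihedralGroup m)) :
    Odd (Nat.card (Cfsg.oddCore G)) ∧ NoOdd (G ⧸ Cfsg.oddCore G) ∧
      ∃ T : Sylow 2 (G ⧸ Cfsg.oddCore G), Nonempty ((T : Subgroup (G ⧸ Cfsg.oddCore G)) ≃* DihedralGroup m) := by
  haveI : Fact (Nat.Prime 2) := ⟨Nat.prime_two⟩
  have hodd : Odd (Nat.card (Cfsg.oddCore G)) :=
    Nat.coprime_two_right.1 (Cfsg.Lib.Components.coprime_card_pPrimeCore 2)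
  refine ⟨hodd, fun M hM ho => ?_, ?_⟩
  · have := @Cfsg.Lib.Components.le_pPrimeCore _ _ 2 M hM (Nat.coprime_two_right.2 ho)
    rw [Cfsg.Lib.Components.pPrimeCore_quotient_eq_bot] at this
    exact le_bot_iff.1 this
  set π := QuotientGroup.mk' (Cfsg.oddCore G) with hπ
  have hsur : Function.Surjective π := QuotientGroup.mk'_surjective _
  have hinj : Function.Injective (π.comp (S : Subgroup G).subtype) := by
    rw [injective_iff_map_eq_one]
    intro x hx
    have hx' : (x : G) ∈ Cfsg.oddCore G := (QuotientGroup.eq_one_iff _).1 hx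
    obtain ⟨j, hj⟩ := IsPGroup.iff_orderOf.1 S.2 x
    have h1 : orderOf x ∣ Nat.card (Cfsg.oddCore G) := by
      rw [← orderOf_coe]; exact Subgroup.orderOf_dvd_natCard _ hx'
    exact orderOf_eq_one_iff.1 (Nat.eq_one_of_dvd_coprimes ((Nat.coprime_two_left.2 hodd).pow_left j) (hj ▸ dvd_rfl) h1)
  exact ⟨S.mapSurjective hsur, ⟨(((MonoidHom.ofInjective hinj).trans (MulEquiv.subgroupCongr (by
    rw [MonoidHom.range_comp, Subgroup.range_subtype]; rfl))).symm).trans hS.some⟩⟩

/-- The general structure theorem from the simple case. -/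
theorem almost_simple_of (hD : DihBelow.{u} (Nat.card G)) (S : Sylow 2 G) {m : ℕ} (hm : 2 ≤ m)
    (hS : Nonempty ((S : Subgroup G) ≃* DihedralGroup m)) (hns : ¬ Group.IsSolvable G) :
    ∃ N : Subgroup (G ⧸ Cfsg.oddCore G), N.Normal ∧ IsDihType N ∧ ¬ 4 ∣ N.index ∧
      centralizer (N : Set (G ⧸ Cfsg.oddCore G)) = ⊥ := by
  obtain ⟨hodd, hO, T, hT⟩ := quot_data S hS
  obtain ⟨L, hLn, hLs, -, hi, hc, P, d, hd, hP⟩ := minimal_normal T hm hT hO
    fun h => hns (solvable_ext _ (Cfsg.Agent.PF.isSolvable_of_odd _ hodd) h)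
  haveI := hLs
  exact ⟨L, hLn, hD L P d hd hP
    ((card_le_card_group L).trans (Nat.le_of_dvd Nat.card_pos (Subgroup.card_quotient_dvd_card _))), hi, hc⟩

/-- The perfect case. -/
theorem perfect_case (hD : DihedralProp.{u}) [Group.IsPerfect G] (S : Sylow 2 G) {m : ℕ} (hm : 2 ≤ m)
    (hS : Nonempty ((S : Subgroup G) ≃* DihedralGroup m)) : IsDihType (G ⧸ Cfsg.oddCore G) := by
  haveI : Fact (Nat.Prime 2) := ⟨Nat.prime_two⟩
  haveI : Nontrivial G := Finite.one_lt_card_iff_nontrivial.1 (by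
    have h1 := card_le_card_group (S : Subgroup G)
    rw [(dihedral_data S hm hS).1] at h1
    omega)
  have hns : ¬ Group.IsSolvable G := Group.IsPerfect.not_isSolvable G
  obtain ⟨L, hLn, hL, hi, -⟩ := almost_simple_of (hD.below _) S hm hS hns
  haveI := hLn
  have hs : Group.IsSolvable ((G ⧸ Cfsg.oddCore G) ⧸ L) :=
    solvable_of_not_four (by rwa [← index_eq_card])
  have htop : L = ⊤ := by
    by_contra h
    haveI : Nontrivial ((G ⧸ Cfsg.oddCore G) ⧸ L) := QuotientGroup.nontrivial_iff.2 h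
    exact Group.IsPerfect.not_isSolvable _ hs
  subst htop
  exact hL.congr Subgroup.topEquiv.symm

end Cfsg.Lib.GWD
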