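import Cfsg.Agent.GWDihedral.Shell.Target
import Cfsg.Agent.S3116
import Cfsg.Agent.PGroups.AutCyclicIndexTwo
import Cfsg.Prelude.Def_Classification2
import Cfsg.Prelude.Def_CaseTheorems

/-!
The reduction of the dihedral theorem to a minimal simple configuration.
-/

set_option autoImplicit false
set_option linter.unusedSectionVars false
set_option linter.style.haveILetI false

namespace Cfsg.Lib.GWD

open Subgroup Cfsg.Lib.GenDihedral

universe u

/-- `X` modulo its odd core is a 2-group, has a self-centralising normal four-group with quotient of order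
three or six, or has a socle `PSL(2, q)` or `A₇` of index not divisible by four. -/
def DShape (X : Type u) [Group X] : Prop :=
  IsPGroup 2 (X ⧸ Cfsg.oddCore X) ∨
    (∃ P : Subgroup (X ⧸ Cfsg.oddCore X), P.Normal ∧ IsKleinFour P ∧
      centralizer (P : Set (X ⧸ Cfsg.oddCore X)) = P ∧ (P.index = 3 ∨ P.index = 6)) ∨
    ∃ N : Subgroup (X ⧸ Cfsg.oddCore X), N.Normal ∧ IsDihType N ∧ ¬ 4 ∣ N.index ∧
      centralizer (N : Set (X ⧸ Cfsg.oddCore X)) = ⊥

/-- The inductive hypothesis: a simple group with dihedral Sylow 2-subgroups of order at least eight all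
whose proper subgroups have the expected shape. -/
structure Minimal (G : Type u) [Group G] : Prop where
  simple : IsSimpleGroup G
  nonab : ¬ IsMulCommutative G
  sylow : ∀ S : Sylow 2 G, ∃ m : ℕ, 4 ≤ m ∧ Nonempty ((S : Subgroup G) ≃* DihedralGroup m)
  shape : ∀ H : Subgroup G, H ≠ ⊤ → DShape H
  kproper : Cfsg.IsKProper G

theorem klein_of_dihedral_two {H : Type*} [Group H] (e : H ≃* DihedralGroup 2) : IsKleinFour H := by
  refine Cfsg.Lib.GWFour.klein_of_sq (by rw [Nat.card_congr e.toEquiv, DihedralGroup.nat_card]) fun x =>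
    e.injective ?_
  rw [map_mul, map_one]
  generalize e x = d
  revert d
  decide

theorem range_comp_equiv {A B C : Type*} [Group A] [Group B] [Group C] (f : B →* C) (e : A ≃* B) :
    (f.comp e.toMonoidHom).range = f.range := by
  rw [MonoidHom.range_comp, MonoidHom.range_eq_map f]
  congr 1
  exact MonoidHom.range_eq_top.2 e.surjective

/-- The image of a dihedral group is cyclic or dihedral. -/
theorem range_dihedral {X : Type*} [Group X] [Finite X] {m : ℕ} [NeZero m] (f : DihedralGroup m →* X) :
    IsCyclic f.range ∨ ∃ d, 2 ≤ d ∧ Nonempty (f.range ≃* DihedralGroup d) := by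
  classical
  set x := f (DihedralGroup.sr 0) with hx
  set y := f (DihedralGroup.sr 1) with hy
  have hxx : x * x = 1 := by rw [hx, ← map_mul, DihedralGroup.sr_mul_self, map_one]
  have hyy : y * y = 1 := by rw [hy, ← map_mul, DihedralGroup.sr_mul_self, map_one]
  have hr : f.range = closure ({x, y} : Set X) := by
    have h1 : x ∈ closure ({x, y} : Set X) := subset_closure (by simp)
    have h2 : y ∈ closure ({x, y} : Set X) := subset_closure (by simp)
    refine le_antisymm ?_ ((closure_le _).2 ?_)
    · rintro _ ⟨d, rfl⟩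
      have hrot : ∀ j : ZMod m, f (DihedralGroup.r j) ∈ closure ({x, y} : Set X) := fun j => by
        rw [← ZMod.natCast_zmod_val j, ← DihedralGroup.r_one_pow, map_pow]
        refine pow_mem ?_ _
        rw [show (DihedralGroup.r (1 : ZMod m) : DihedralGroup m) = DihedralGroup.sr 0 * DihedralGroup.sr 1 by
          rw [DihedralGroup.sr_mul_sr, sub_zero], map_mul]
        exact mul_mem h1 h2
      cases d with
      | r j => exact hrot j
      | sr j =>
        rw [show (DihedralGroup.sr j : DihedralGroup m) = DihedralGroup.sr 0 * DihedralGroup.r j by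
          rw [DihedralGroup.sr_mul_r, zero_add], map_mul]
        exact mul_mem h1 (hrot j)
    · rintro z (rfl | rfl)
      exacts [⟨_, rfl⟩, ⟨_, rfl⟩]
  rw [hr]
  by_cases hxy : x = 1 ∨ y = 1 ∨ x = y
  · refine Or.inl ?_
    have hle : closure ({x, y} : Set X) ≤ zpowers (if x = 1 then y else x) := by
      refine (closure_le _).2 ?_
      rintro z (rfl | rfl)
      · split
        · rename_i h; rw [h]; exact one_mem _
        · exact mem_zpowers _
      · split
        · exact mem_zpowers _
        · rename_i h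
          rcases hxy with h' | h' | h'
          · exact absurd h' h
          · rw [h']; exact one_mem _
          · rw [h']; exact mem_zpowers _
    exact isCyclic_of_le hle
  · push Not at hxy
    obtain ⟨hx1, hy1, hne⟩ := hxy
    obtain ⟨e⟩ := Cfsg.Agent.S0206.result x y (orderOf_eq_prime (by rw [pow_two, hxx]) hx1)
      (orderOf_eq_prime (by rw [pow_two, hyy]) hy1) hne
    refine Or.inr ⟨_, ?_, ⟨e⟩⟩
    have h1 : orderOf (x * y) ≠ 1 := fun h => hne (by
      rw [mul_eq_one_iff_eq_inv.1 (orderOf_eq_one_iff.1 h)]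
      exact inv_eq_of_mul_eq_one_left hyy)
    have := orderOf_pos (x * y)
    omega

variable {G : Type u} [Group G] [Finite G]

/-- A 2-group acting faithfully modulo a self-centralising subgroup with a 2-group of automorphisms. -/
theorem two_group_of_aut {P : Subgroup G} [P.Normal] (hP : IsPGroup 2 P)
    (hC : centralizer (P : Set G) ≤ P) (hA : IsPGroup 2 (MulAut P)) : IsPGroup 2 G := by
  haveI : Fact (Nat.Prime 2) := ⟨Nat.prime_two⟩
  set φ : G →* MulAut P := MulAut.conjNormal with hφ
  have hk : φ.ker ≤ P := fun g hg => hC (mem_centralizer_iff.2 fun x hx => by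
    have h1 : ((φ g ⟨x, hx⟩ : P) : G) = x := by rw [MonoidHom.mem_ker.1 hg]; rfl
    rw [hφ, MulAut.conjNormal_apply] at h1
    exact (mul_inv_eq_iff_eq_mul.1 h1).symm)
  obtain ⟨a, ha⟩ := IsPGroup.iff_card.1 (hP.to_le hk)
  obtain ⟨b, hb⟩ := IsPGroup.iff_card.1 (hA.to_subgroup φ.range)
  refine IsPGroup.of_card (n := a + b) ?_
  rw [← φ.ker.card_mul_index, Subgroup.index_ker, ha, hb, pow_add]

theorem card_perm_nonone {P : Type*} [Group P] [Finite P] (h : Nat.card P = 4) :
    Nat.card (Equiv.Perm {x : P // x ≠ 1}) = 6 := by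
  classical
  letI := Fintype.ofFinite P
  rw [Nat.card_perm, Nat.card_eq_fintype_card, Fintype.card_subtype_compl, Fintype.card_subtype_eq,
    ← Nat.card_eq_fintype_card, h]
  rfl

/-- A solvable group with cyclic or dihedral Sylow 2-subgroups and no odd core. -/
theorem solvable_shape (T : Sylow 2 G)
    (hT : IsCyclic (T : Subgroup G) ∨ ∃ m, 2 ≤ m ∧ Nonempty ((T : Subgroup G) ≃* DihedralGroup m))
    (hO : NoOdd G) (hs : Group.IsSolvable G) :
    IsPGroup 2 G ∨ ∃ P : Subgroup G, P.Normal ∧ IsKleinFour P ∧ centralizer (P : Set G) = P ∧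
      (P.index = 3 ∨ P.index = 6) := by
  haveI : Fact (Nat.Prime 2) := ⟨Nat.prime_two⟩
  haveI := hs
  have hO' : Cfsg.pPrimeCore 2 G = ⊥ := hO _
    (Cfsg.Lib.Components.normal_of_mem_sSup_normal fun _ h => h.1)
    (Nat.coprime_two_right.1 (Cfsg.Lib.Components.coprime_card_pPrimeCore 2))
  have hC := Cfsg.Lib.Coprime.centralizer_pCore_le (G := G) 2 hO'
  have hle := Cfsg.Lib.Coprime.pCore_le_sylow (G := G) 2 T
  set P := Cfsg.pCore 2 G with hP
  obtain ⟨hPn, hPp⟩ := Cfsg.Lib.Components.pCore_normal_and_isPGroup (G := G) 2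
  haveI : P.Normal := hPn
  have hcase : IsCyclic P ∨ ∃ d, 2 ≤ d ∧ Nonempty (P ≃* DihedralGroup d) := by
    rcases hT with hc | ⟨m, hm, ⟨e⟩⟩
    · haveI := hc
      exact Or.inl (isCyclic_of_le hle)
    · haveI : NeZero m := ⟨by omega⟩
      exact sub_of_equiv e hle
  rcases hcase with hc | ⟨d, hd, ⟨e⟩⟩
  · haveI := hc
    exact Or.inl (two_group_of_aut hPp hC (Cfsg.Lib.AutCyclicIndexTwo.aut_two_group_of_cyclic hPp))
  have hcd : Nat.card P = 2 * d := by rw [Nat.card_congr e.toEquiv, DihedralGroup.nat_card]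
  by_cases hd2 : d = 2
  swap
  · refine Or.inl (two_group_of_aut hPp hC (Cfsg.Agent.S3116.result hPp (Or.inl ⟨d, ?_, ⟨e⟩⟩)))
    obtain ⟨k, hk⟩ := IsPGroup.iff_card.1 hPp
    rw [hcd] at hk
    rcases k with _ | _ | _ | k <;> simp only [pow_succ, pow_zero, one_mul] at hk <;>
      (try have := Nat.one_le_two_pow (n := k)) <;> omega
  subst hd2
  have hK := klein_of_dihedral_two e
  have hCeq : centralizer (P : Set G) = P := le_antisymm hC fun x hx =>
    mem_centralizer_iff.2 fun y hy => congrArg Subtype.val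
      (Cfsg.Lib.GWFour.comm_of_klein (⟨y, hy⟩ : P) ⟨x, hx⟩)
  set φ : G →* MulAut P := MulAut.conjNormal with hφ
  have hker : φ.ker = P := by
    refine Eq.trans ?_ hCeq
    ext g
    rw [MonoidHom.mem_ker, mem_centralizer_iff]
    constructor
    · intro h x hx
      have := congrArg Subtype.val (DFunLike.congr_fun h ⟨x, hx⟩)
      rw [hφ, MulAut.conjNormal_apply] at this
      exact (mul_inv_eq_iff_eq_mul.1 this).symm
    · intro h
      ext x
      rw [hφ, MulAut.conjNormal_apply]
      exact mul_inv_eq_iff_eq_mul.2 (h x x.2).symm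
  have hidx : P.index ∣ 6 := by
    rw [← hker, Subgroup.index_ker, ← card_perm_nonone (P := P) (by rw [hcd])]
    let ψ : MulAut P →* Equiv.Perm {x : P // x ≠ 1} :=
      { toFun := fun a => a.toEquiv.subtypeEquiv fun x => by simp
        map_one' := rfl
        map_mul' := fun _ _ => rfl }
    have hψ : Function.Injective ψ := fun a b e => MulEquiv.ext fun x => by
      by_cases hx : x = 1
      · rw [hx, map_one, map_one]
      · exact congrArg Subtype.val (Equiv.congr_fun e ⟨x, hx⟩)
    exact (card_subgroup_dvd_card φ.range).trans (card_dvd_of_injective ψ hψ)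
  have h6 := Nat.le_of_dvd (by norm_num) hidx
  have hcard := P.card_mul_index
  rw [hcd] at hcard
  by_cases h12 : P.index = 1 ∨ P.index = 2
  · left
    rcases h12 with h | h <;> rw [h] at hcard
    · exact IsPGroup.of_card (n := 2) (by rw [← hcard]; rfl)
    · exact IsPGroup.of_card (n := 3) (by rw [← hcard]; rfl)
  · refine Or.inr ⟨P, hPn, hK, hCeq, ?_⟩
    obtain ⟨i, hi⟩ : ∃ i, P.index = i := ⟨_, rfl⟩
    rw [hi] at h12 hidx h6 ⊢
    interval_cases i <;> omega

/-- The shape of a group with cyclic or dihedral Sylow 2-subgroups, from the simple case. -/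
theorem dihShape (hD : DihBelow.{u} (Nat.card G)) (S : Sylow 2 G)
    (hS : IsCyclic (S : Subgroup G) ∨ ∃ m, 2 ≤ m ∧ Nonempty ((S : Subgroup G) ≃* DihedralGroup m)) :
    DShape G := by
  haveI : Fact (Nat.Prime 2) := ⟨Nat.prime_two⟩
  by_cases hs : Group.IsSolvable G
  swap
  · rcases hS with hc | ⟨m, hm, hS⟩
    · exact absurd (Cfsg.Lib.CyclicInter.solvable_of_cyclic S hc) hs
    · exact Or.inr (Or.inr (almost_simple_of hD S hm hS hs))
  haveI := hs
  have hO : NoOdd (G ⧸ Cfsg.oddCore G) := fun M hM ho => by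
    have := @Cfsg.Lib.Components.le_pPrimeCore _ _ 2 M hM (Nat.coprime_two_right.2 ho)
    rw [Cfsg.Lib.Components.pPrimeCore_quotient_eq_bot] at this
    exact le_bot_iff.1 this
  set T := S.mapSurjective (QuotientGroup.mk'_surjective (Cfsg.oddCore G))
  have hT : IsCyclic (T : Subgroup (G ⧸ Cfsg.oddCore G)) ∨
      ∃ m, 2 ≤ m ∧ Nonempty ((T : Subgroup (G ⧸ Cfsg.oddCore G)) ≃* DihedralGroup m) := by
    set f := (QuotientGroup.mk' (Cfsg.oddCore G)).comp (S : Subgroup G).subtype
    have e : f.range = (T : Subgroup (G ⧸ Cfsg.oddCore G)) := by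
      rw [MonoidHom.range_comp, Subgroup.range_subtype]; rfl
    rw [← e]
    rcases hS with hc | ⟨m, hm, ⟨g⟩⟩
    · haveI := hc
      exact Or.inl (isCyclic_of_surjective f.rangeRestrict f.rangeRestrict_surjective)
    · haveI : NeZero m := ⟨by omega⟩
      rw [← range_comp_equiv f g.symm]
      exact range_dihedral _
  rcases solvable_shape T hT hO inferInstance with h | h
  · exact Or.inl h
  · exact Or.inr (Or.inl h)

/-- A proper subgroup of a minimal configuration and its simple sections. -/
theorem minimal_of (hG : IsSimpleGroup G) (S : Sylow 2 G) {m : ℕ} (hm : 4 ≤ m)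
    (hS : Nonempty ((S : Subgroup G) ≃* DihedralGroup m))
    (hD : ∀ n : ℕ, n < Nat.card G → DihBelow.{u} n) : Minimal G := by
  haveI : Fact (Nat.Prime 2) := ⟨Nat.prime_two⟩
  haveI := hG
  haveI : NeZero m := ⟨by omega⟩
  have hna : ¬ IsMulCommutative G := fun h => by
    obtain ⟨e⟩ := hS
    have h' := congrArg e ((Subtype.ext (h.is_comm.comm _ _) :
      e.symm (DihedralGroup.r 1) * e.symm (DihedralGroup.sr 0) =
        e.symm (DihedralGroup.sr 0) * e.symm (DihedralGroup.r 1)))
    rw [map_mul, map_mul, e.apply_symm_apply, e.apply_symm_apply, DihedralGroup.r_mul_sr,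
      DihedralGroup.sr_mul_r, DihedralGroup.sr.injEq, zero_sub, zero_add] at h'
    have h2 : ((2 : ℕ) : ZMod m) = 0 := by
      push_cast
      rw [← one_add_one_eq_two]
      nth_rewrite 1 [← h']
      rw [neg_add_cancel]
    rw [ZMod.natCast_eq_zero_iff] at h2
    have := Nat.le_of_dvd two_pos h2
    omega
  have key : ∀ H : Subgroup G, ∀ P : Sylow 2 H,
      IsCyclic (P : Subgroup H) ∨ ∃ d, 2 ≤ d ∧ Nonempty ((P : Subgroup H) ≃* DihedralGroup d) := by
    intro H P
    obtain ⟨Q, hQ⟩ := (P.2.map H.subtype).exists_le_sylow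
    obtain ⟨g, hg⟩ := MulAction.exists_smul_eq G Q S
    set f := (MulAut.conj g).toMonoidHom.comp H.subtype with hf
    have hfi : Function.Injective f := (MulAut.conj g).injective.comp H.subtype_injective
    have hle : (P : Subgroup H).map f ≤ (S : Subgroup G) := by
      rw [hf, ← Subgroup.map_map, ← hg]
      exact map_mono hQ
    have eP := (P : Subgroup H).equivMapOfInjective f hfi
    rcases sub_of_equiv hS.some hle with hc | ⟨d, hd, ⟨e⟩⟩
    · haveI := hc
      exact Or.inl (isCyclic_of_injective eP.toMonoidHom eP.injective)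
    · exact Or.inr ⟨d, hd, ⟨eP.trans e⟩⟩
  refine ⟨hG, hna, fun P => ?_, fun H hH => ?_, fun H hH K N hN hs hnc => ?_⟩
  · obtain ⟨g, hg⟩ := MulAction.exists_smul_eq G P S
    subst hg
    exact ⟨m, hm, ⟨(Sylow.equivSMul P g).trans hS.some⟩⟩
  · obtain ⟨P⟩ : Nonempty (Sylow 2 H) := inferInstance
    refine dihShape (hD _ ?_) P (key H P)
    exact lt_of_le_of_ne (card_le_card_group H) fun e => hH (Subgroup.eq_top_of_card_eq H e)
  · haveI := hs
    have hd : Nat.card (↥K ⧸ N) ∣ Nat.card H :=
      (Subgroup.card_quotient_dvd_card N).trans (card_subgroup_dvd_card K)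
    have hns : ¬ Group.IsSolvable (↥K ⧸ N) := fun h =>
      hnc ⟨⟨IsSimpleGroup.comm_iff_isSolvable.2 h⟩⟩
    have hlt : Nat.card H < Nat.card G :=
      lt_of_le_of_ne (card_le_card_group H) fun e => hH (Subgroup.eq_top_of_card_eq H e)
    obtain ⟨P⟩ : Nonempty (Sylow 2 K) := inferInstance
    set T := P.mapSurjective (QuotientGroup.mk'_surjective N)
    set f := (QuotientGroup.mk' N).comp (P : Subgroup K).subtype
    have e : f.range = (T : Subgroup (↥K ⧸ N)) := by
      rw [MonoidHom.range_comp, Subgroup.range_subtype]; rfl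
    have hPc : IsCyclic (P : Subgroup K) ∨ ∃ d, 2 ≤ d ∧ Nonempty ((P : Subgroup K) ≃* DihedralGroup d) := by
      have e1 := K.equivMapOfInjective H.subtype H.subtype_injective
      obtain ⟨Q⟩ : Nonempty (Sylow 2 (K.map H.subtype)) := inferInstance
      obtain ⟨g, hg⟩ := MulAction.exists_smul_eq (K.map H.subtype)
        (P.mapSurjective (f := e1.toMonoidHom) e1.surjective) Q
      have e2 : (P : Subgroup K) ≃* ↥(Q : Subgroup (K.map H.subtype)) := by
        subst hg
        exact ((P : Subgroup K).equivMapOfInjective e1.toMonoidHom e1.injective).trans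
          (Sylow.equivSMul (P.mapSurjective (f := e1.toMonoidHom) e1.surjective) g)
      rcases key _ Q with hc | ⟨d, hd, ⟨h⟩⟩
      · haveI := hc
        exact Or.inl (isCyclic_of_injective e2.toMonoidHom e2.injective)
      · exact Or.inr ⟨d, hd, ⟨e2.trans h⟩⟩
    rcases hPc with hc | ⟨d, hd2, ⟨g⟩⟩
    · haveI := hc
      exact absurd (Cfsg.Lib.CyclicInter.solvable_of_cyclic T
        (e ▸ isCyclic_of_surjective f.rangeRestrict f.rangeRestrict_surjective)) hns
    · haveI : NeZero d := ⟨by omega⟩
      rcases range_dihedral (f.comp g.symm.toMonoidHom) with hc | ⟨d', hd', ⟨g'⟩⟩ <;>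
        have er : (f.comp g.symm.toMonoidHom).range = (T : Subgroup (↥K ⧸ N)) := by
          rw [range_comp_equiv, e]
      · exact absurd (Cfsg.Lib.CyclicInter.solvable_of_cyclic T (er ▸ hc)) hns
      · rcases hD _ hlt (↥K ⧸ N) T d' hd' ⟨(MulEquiv.subgroupCongr er.symm).trans g'⟩
          (Nat.le_of_dvd Nat.card_pos hd) with ⟨F, i, j, -, h5, he⟩ | he
        · exact Or.inr (Or.inr (Or.inl ⟨F, i, j, 2, le_rfl, fun _ => by omega, he⟩))
        · exact Or.inr (Or.inl ⟨7, by norm_num, he⟩)

/-- The dihedral theorem from the four-group case and the minimal configuration. -/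
theorem dihedralProp_of_minimal (hF : Cfsg.Lib.GWFour.FourGroupProp.{u})
    (h : ∀ (G : Type u) [Group G] [Finite G], Minimal G → IsDihType G) : DihedralProp.{u} := by
  have key : ∀ n : ℕ, DihBelow.{u} n := by
    intro n
    induction n using Nat.strong_induction_on with
    | _ n IH =>
      intro G _ _ _ S m hm hS hle
      by_cases h2 : m = 2
      · subst h2
        obtain ⟨F, i, j, h8, h5, he⟩ := hF G S (klein_of_dihedral_two hS.some)
        exact Or.inl ⟨F, i, j, Nat.odd_iff.2 (by omega), h5, he⟩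
      · obtain ⟨k, hk⟩ := (dihedral_data S hm hS).2
        refine h G (minimal_of ‹_› S (m := m) ?_ hS fun n' hn' => IH n' (by omega))
        rcases k with _ | k
        · exact absurd hk (by simpa using h2)
        · have := Nat.one_le_two_pow (n := k)
          rw [hk, pow_succ, pow_succ]; omega
  exact fun G _ _ _ S m hm hS => key (Nat.card G) G S m hm hS le_rfl

end Cfsg.Lib.GWD
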