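import Cfsg.Agent.S0206
import Cfsg.Agent.CyclicInter.Main
import Mathlib.GroupTheory.SpecificGroups.Dihedral

/-!
Subgroups of dihedral groups.
-/

set_option autoImplicit false
set_option linter.style.haveILetI false

namespace Cfsg.Lib.GWD

open Subgroup DihedralGroup

universe u

variable {m : ℕ}

/-- The subgroup of rotations. -/
theorem rot_mem_iff [NeZero m] {x : DihedralGroup m} :
    x ∈ zpowers (r 1 : DihedralGroup m) ↔ ∃ i, x = r i := by
  constructor
  · intro h
    obtain ⟨k, rfl⟩ := mem_zpowers_iff.1 h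
    exact ⟨k, r_one_zpow k⟩
  · rintro ⟨i, rfl⟩
    exact mem_zpowers_iff.2 ⟨(i.cast : ℤ), by rw [r_one_zpow, ZMod.intCast_zmod_cast]⟩

/-- A non-cyclic subgroup of a dihedral group contains a reflection. -/
theorem exists_reflection [NeZero m] (D : Subgroup (DihedralGroup m)) (hD : ¬ IsCyclic D) :
    ∃ i, sr i ∈ D := by
  by_contra h
  push Not at h
  refine hD (isCyclic_of_le (H' := zpowers (r 1 : DihedralGroup m)) fun x hx => ?_)
  cases x with
  | r i => exact rot_mem_iff.2 ⟨i, rfl⟩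
  | sr i => exact absurd hx (h i)

/-- A non-cyclic subgroup of a dihedral group is dihedral. -/
theorem sub_dihedral [NeZero m] (D : Subgroup (DihedralGroup m)) (hD : ¬ IsCyclic D) :
    ∃ d : ℕ, 2 ≤ d ∧ Nonempty (D ≃* DihedralGroup d) := by
  obtain ⟨i, hi⟩ := exists_reflection D hD
  set R := D ⊓ zpowers (r 1 : DihedralGroup m)
  obtain ⟨⟨g, hgR⟩, hg⟩ := (isCyclic_of_le (H' := zpowers (r 1 : DihedralGroup m))
    (inf_le_right : R ≤ _)).exists_generator
  obtain ⟨d, hd⟩ := rot_mem_iff.1 hgR.2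
  subst hd
  have hpow : ∀ x ∈ R, x ∈ zpowers (r d) := fun x hx => by
    obtain ⟨k, hk⟩ := mem_zpowers_iff.1 (hg ⟨x, hx⟩)
    exact mem_zpowers_iff.2 ⟨k, congrArg Subtype.val hk⟩
  have hsr : sr (i + d) = sr i * r d := by rw [sr_mul_r]
  have hdne : d ≠ 0 := by
    intro h0
    apply hD
    refine isCyclic_of_le (H' := zpowers (sr i)) fun x hx => ?_
    have key : ∀ y ∈ R, y = 1 := fun y hy => by
      have := hpow y hy
      rw [h0, r_zero, zpowers_one_eq_bot, mem_bot] at this
      exact this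
    cases x with
    | r j => rw [key (r j) ⟨hx, rot_mem_iff.2 ⟨j, rfl⟩⟩]; exact one_mem _
    | sr j =>
      have h := key (sr i * sr j) ⟨mul_mem hi hx, rot_mem_iff.2 ⟨j - i, sr_mul_sr i j⟩⟩
      rw [sr_mul_sr, ← r_zero, r.injEq, sub_eq_zero] at h
      rw [h]; exact mem_zpowers _
  have hne : sr i ≠ sr (i + d) := fun h => hdne (by
    rw [sr.injEq] at h
    exact add_eq_left.1 h.symm)
  obtain ⟨e⟩ := Cfsg.Agent.S0206.result (sr i) (sr (i + d)) (orderOf_sr i) (orderOf_sr _) hne
  have hxy : sr i * sr (i + d) = r d := by rw [sr_mul_sr, add_sub_cancel_left]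
  have hcl : closure ({sr i, sr (i + d)} : Set (DihedralGroup m)) = D := by
    refine le_antisymm ((closure_le _).2 ?_) fun x hx => ?_
    · rintro x (rfl | rfl)
      · exact hi
      · rw [hsr]; exact mul_mem hi hgR.1
    have h1 : sr i ∈ closure ({sr i, sr (i + d)} : Set (DihedralGroup m)) := subset_closure (by simp)
    have h2 : sr (i + d) ∈ closure ({sr i, sr (i + d)} : Set (DihedralGroup m)) := subset_closure (by simp)
    have h3 : r d ∈ closure ({sr i, sr (i + d)} : Set (DihedralGroup m)) := hxy ▸ mul_mem h1 h2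
    have key : ∀ y ∈ R, y ∈ closure ({sr i, sr (i + d)} : Set (DihedralGroup m)) := fun y hy =>
      zpowers_le.2 h3 (hpow y hy)
    cases x with
    | r j => exact key _ ⟨hx, rot_mem_iff.2 ⟨j, rfl⟩⟩
    | sr j =>
      have h := key _ ⟨mul_mem hi hx, rot_mem_iff.2 ⟨j - i, sr_mul_sr i j⟩⟩
      rw [show (sr j : DihedralGroup m) = sr i * (sr i * sr j) by
        rw [← mul_assoc, sr_mul_self, one_mul]]
      exact mul_mem h1 h
  refine ⟨orderOf (r d), ?_, ⟨(MulEquiv.subgroupCongr hcl.symm).trans (e.trans (by rw [hxy]))⟩⟩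
  have h1 : orderOf (r d) ≠ 1 := fun h => hdne (by
    have := orderOf_eq_one_iff.1 h
    rwa [← r_zero, r.injEq] at this)
  have := orderOf_pos (r d)
  omega

/-- A normal non-cyclic subgroup of a dihedral group has index at most two. -/
theorem index_of_normal [NeZero m] (D : Subgroup (DihedralGroup m)) [D.Normal] (hD : ¬ IsCyclic D) :
    D.index ≤ 2 := by
  obtain ⟨i, hi⟩ := exists_reflection D hD
  have hr2 : ∀ j : ZMod m, r (j + j) ∈ D := fun j => by
    have h := mul_mem hi ((inferInstance : D.Normal).conj_mem _ hi (r j))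
    rw [inv_r, r_mul_sr, sr_mul_r, sr_mul_sr] at h
    have h' := inv_mem h
    rw [inv_r] at h'
    convert h' using 2
    ring
  set φ : DihedralGroup m →* DihedralGroup m ⧸ D := QuotientGroup.mk' D
  have hφ : ∀ x : DihedralGroup m, ∃ j, φ x = φ (r j) := by
    rintro (j | j)
    · exact ⟨j, rfl⟩
    · refine ⟨j - i, ?_⟩
      rw [show (sr j : DihedralGroup m) = sr i * r (j - i) by rw [sr_mul_r, add_sub_cancel], map_mul,
        show φ (sr i) = 1 from (QuotientGroup.eq_one_iff _).2 hi, one_mul]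
  have hgen : ∀ y : DihedralGroup m ⧸ D, y = 1 ∨ y = φ (r 1) := by
    intro y
    obtain ⟨x, rfl⟩ := QuotientGroup.mk'_surjective D y
    obtain ⟨j, hj⟩ := hφ x
    rw [show QuotientGroup.mk' D x = φ x from rfl, hj]
    obtain ⟨k, rfl⟩ := ZMod.natCast_zmod_surjective j
    obtain ⟨c, rfl | rfl⟩ := Nat.even_or_odd' k
    · left
      refine (QuotientGroup.eq_one_iff _).2 ?_
      rw [show ((2 * c : ℕ) : ZMod m) = (c : ZMod m) + c by push_cast; ring]
      exact hr2 _
    · right
      rw [show ((2 * c + 1 : ℕ) : ZMod m) = ((c : ZMod m) + c) + 1 by push_cast; ring, ← r_mul_r, map_mul,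
        show φ (r ((c : ZMod m) + c)) = 1 from (QuotientGroup.eq_one_iff _).2 (hr2 _), one_mul]
  rw [index_eq_card]
  calc Nat.card (DihedralGroup m ⧸ D) ≤ Nat.card (Fin 2) :=
        Nat.card_le_card_of_surjective (fun b : Fin 2 => if b = 0 then 1 else φ (r 1)) fun y => by
          rcases hgen y with h | h
          · exact ⟨0, by simp [h]⟩
          · exact ⟨1, by simp [h]⟩
    _ = 2 := by simp

/-- A subgroup of order at least four of a dihedral 2-group contains its central involution. -/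
theorem center_mem [NeZero m] (hm : ∃ k, m = 2 ^ (k + 1)) (D : Subgroup (DihedralGroup m)) (hD : 2 < Nat.card D) :
    (r ((m / 2 : ℕ) : ZMod m) : DihedralGroup m) ∈ D := by
  obtain ⟨k, hk⟩ := hm
  by_contra hz
  have hR : ∀ j : ZMod m, r j ∈ D → j = 0 := by
    intro j hj
    by_contra h0
    have hne : (r j : DihedralGroup m) ≠ 1 := by rw [← r_zero, Ne, r.injEq]; exact h0
    obtain ⟨a, b, hb, hab⟩ : ∃ a b : ℕ, Odd b ∧ j.val = 2 ^ a * b := by
      obtain ⟨a, b, hb, hab⟩ := Nat.exists_eq_two_pow_mul_odd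
        (n := j.val) (fun h => h0 ((ZMod.val_eq_zero j).1 h))
      exact ⟨a, b, hb, hab⟩
    have hlt := ZMod.val_lt j
    have ha : a ≤ k := by
      by_contra hc
      have h1 : 2 ^ (k + 1) ≤ 2 ^ a := Nat.pow_le_pow_right two_pos (by omega)
      have h2 : 2 ^ a ≤ j.val := hab ▸ Nat.le_mul_of_pos_right _ hb.pos
      omega
    apply hz
    have h := pow_mem hj (2 ^ (k - a))
    rw [r_pow] at h
    convert h using 2
    have e2 : m / 2 = 2 ^ k := by rw [hk, pow_succ]; omega
    rw [e2, ← ZMod.natCast_zmod_val j, hab, ← Nat.cast_mul]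
    obtain ⟨c, rfl⟩ := hb
    have e3 : 2 ^ a * (2 * c + 1) * 2 ^ (k - a) = 2 ^ k + m * c := by
      have e : 2 ^ a * 2 ^ (k - a) = 2 ^ k := by rw [← pow_add, Nat.add_sub_cancel' ha]
      rw [mul_right_comm, e, hk, pow_succ]; ring
    rw [e3]; push_cast; rw [ZMod.natCast_self]; ring
  apply absurd hD
  rw [not_lt]
  calc Nat.card D ≤ Nat.card (Fin 2) := Nat.card_le_card_of_injective
        (fun x : D => (match (x : DihedralGroup m) with | .r _ => 0 | .sr _ => 1 : Fin 2)) (by
          rintro ⟨x | x, hx⟩ ⟨y | y, hy⟩ h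
          · exact Subtype.ext (congrArg r ((hR x hx).trans (hR y hy).symm))
          · simp at h
          · simp at h
          · have := hR _ (sr_mul_sr x y ▸ mul_mem hx hy)
            exact Subtype.ext (congrArg sr (sub_eq_zero.1 this).symm))
    _ = 2 := by simp

/-- Transport to a subgroup isomorphic to a dihedral group. -/
theorem sub_of_equiv {G : Type u} [Group G] {S : Subgroup G} [NeZero m] (e : S ≃* DihedralGroup m) {P : Subgroup G}
    (hP : P ≤ S) : IsCyclic P ∨ ∃ d : ℕ, 2 ≤ d ∧ Nonempty (P ≃* DihedralGroup d) := by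
  have eP : P ≃* ↥((P.subgroupOf S).map e.toMonoidHom) :=
    (subgroupOfEquivOfLe hP).symm.trans ((P.subgroupOf S).equivMapOfInjective _ e.injective)
  by_cases hc : IsCyclic ↥((P.subgroupOf S).map e.toMonoidHom)
  · exact Or.inl (isCyclic_of_injective eP.toMonoidHom eP.injective)
  · obtain ⟨d, hd, ⟨f⟩⟩ := sub_dihedral _ hc
    exact Or.inr ⟨d, hd, ⟨eP.trans f⟩⟩

end Cfsg.Lib.GWD
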